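import Groth.Agent.VecFrameLib.Descent
import Groth.Agent.ParaFLib.Free
import Groth.Agent.ParaFLib.Stalkwise

/-!
# Faithfully flat descent of parafactorial pairs
-/

set_option autoImplicit false
set_option backward.isDefEq.respectTransparency false
set_option backward.defeqAttrib.useBackward true
set_option linter.style.haveILetI false

universe u

open CategoryTheory CategoryTheory.Limits AlgebraicGeometry TopologicalSpace Opposite
open Groth.Agent.CohBase Groth.Agent.ProjCoh Groth.Agent.FormalLib Groth.Agent.PullbackMod Groth.Agent.ParaFLib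
  Groth.Agent.AmpleLib Groth.Agent.CubeLib

noncomputable section

namespace Groth.Agent.ParaFDescLib

/-- Functions on `O` and on `O ⊓ U` agree. -/
def FunBij (X : Scheme.{u}) (U O : X.Opens) : Prop :=
  Function.Bijective (X.presheaf.map (homOfLE (inf_le_left : O ⊓ U ≤ O)).op)

theorem ringClosed_iff {X : Scheme.{u}} (Y : Closeds X) : RingClosed X Y ↔ ∀ O, FunBij X Y.compl O :=
  ⟨fun h O => h O inf_le_left, fun h O _ => h O⟩

/-- Bijectivity on a basis gives bijectivity everywhere. -/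
theorem funBij_of_basis {X : Scheme.{u}} (U : X.Opens)
    (h : ∀ (O : X.Opens) (x : X), x ∈ O → ∃ B : X.Opens, x ∈ B ∧ B ≤ O ∧ FunBij X U B) :
    ∀ O, FunBij X U O := by
  classical
  let F : TopCat.Sheaf CommRingCat.{u} X.carrier := X.sheaf
  let res : ∀ {a b : X.Opens}, b ≤ a → Γ(X, a) → Γ(X, b) := fun h s => X.presheaf.map (homOfLE h).op s
  have hres : ∀ {a b c : X.Opens} (h₁ : b ≤ a) (h₂ : c ≤ b) (s : Γ(X, a)),
      res h₂ (res h₁ s) = res (h₂.trans h₁) s := fun h₁ h₂ s => by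
    simp only [res, ← CommRingCat.comp_apply, ← Functor.map_comp]
    rfl
  have hinj : ∀ (O : X.Opens) (a b : Γ(X, O)), res (inf_le_left : O ⊓ U ≤ O) a = res inf_le_left b → a = b := by
    intro O a b hab
    choose B hxB hBO hB using fun x : O => h O x.1 x.2
    refine F.eq_of_locally_eq' B O (fun x => homOfLE (hBO x)) (fun x hx => Opens.mem_iSup.2 ⟨⟨x, hx⟩, hxB _⟩) a b fun x => ?_
    apply (hB x).1
    show res inf_le_left (res (hBO x) a) = res inf_le_left (res (hBO x) b)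
    rw [hres, hres, ← hres (inf_le_left : O ⊓ U ≤ O) (inf_le_inf_right U (hBO x)),
      ← hres (inf_le_left : O ⊓ U ≤ O) (inf_le_inf_right U (hBO x)), hab]
  intro O
  refine ⟨fun a b hab => hinj O a b hab, fun c => ?_⟩
  choose B hxB hBO hB using fun x : O => h O x.1 x.2
  choose s hs using fun x => (hB x).2 (res (inf_le_inf_right U (hBO x)) c)
  obtain ⟨t, ht, -⟩ := F.existsUnique_gluing' B O (fun x => homOfLE (hBO x))
    (fun x hx => Opens.mem_iSup.2 ⟨⟨x, hx⟩, hxB _⟩) s (fun x y => by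
      show res inf_le_left (s x) = res inf_le_right (s y)
      apply hinj
      rw [hres, hres, ← hres (inf_le_left : B x ⊓ U ≤ B x) (inf_le_inf_right U inf_le_left),
        ← hres (inf_le_left : B y ⊓ U ≤ B y) (inf_le_inf_right U inf_le_right)]
      show res _ (X.presheaf.map _ (s x)) = res _ (X.presheaf.map _ (s y))
      rw [hs x, hs y, hres, hres])
  refine ⟨t, ?_⟩
  refine F.eq_of_locally_eq' (fun x => B x ⊓ U) (O ⊓ U) (fun x => homOfLE (inf_le_inf_right U (hBO x)))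
    (fun x hx => Opens.mem_iSup.2 ⟨⟨x, hx.1⟩, hxB _, hx.2⟩) _ c fun x => ?_
  show res _ (res inf_le_left t) = res _ c
  rw [hres, ← hres (hBO x) (inf_le_left : B x ⊓ U ≤ B x)]
  show res _ (X.presheaf.map _ t) = _
  rw [show X.presheaf.map (homOfLE (hBO x)).op t = s x from ht x]
  exact hs x

theorem funBij_congr {X : Scheme.{u}} {U O O' : X.Opens} (e : O = O') (h : FunBij X U O) : FunBij X U O' := e ▸ h

theorem funBij_image_iff {Z X : Scheme.{u}} (i : Z ⟶ X) [IsOpenImmersion i] (U : X.Opens) (O : Z.Opens) :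
    FunBij Z (i ⁻¹ᵁ U) O ↔ FunBij X U (i ''ᵁ O) := by
  have e : i ''ᵁ (O ⊓ i ⁻¹ᵁ U) = i ''ᵁ O ⊓ U := by
    ext x
    constructor
    · rintro ⟨z, ⟨h1, h2⟩, rfl⟩; exact ⟨⟨z, h1, rfl⟩, h2⟩
    · rintro ⟨⟨z, h1, rfl⟩, h2⟩; exact ⟨z, ⟨h1, h2⟩, rfl⟩
  have hsq : ∀ r : Γ(X, i ''ᵁ O),
      Z.presheaf.map (homOfLE (inf_le_left : O ⊓ i ⁻¹ᵁ U ≤ O)).op ((i.appIso O).hom r) =
      (i.appIso (O ⊓ i ⁻¹ᵁ U)).hom (X.presheaf.map (homOfLE e.le).op
        (X.presheaf.map (homOfLE (inf_le_left : i ''ᵁ O ⊓ U ≤ i ''ᵁ O)).op r)) := by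
    intro r
    simp only [← CommRingCat.comp_apply, Scheme.Hom.appIso_hom', Scheme.Hom.appLE_map, Scheme.Hom.map_appLE, Category.assoc]
  have hb : Function.Bijective fun r => (i.appIso (O ⊓ i ⁻¹ᵁ U)).hom (X.presheaf.map (homOfLE e.le).op r) := by
    haveI : IsIso (homOfLE e.le) := ⟨homOfLE e.ge, Subsingleton.elim _ _, Subsingleton.elim _ _⟩
    exact (ConcreteCategory.bijective_of_isIso (i.appIso _).hom).comp
      (ConcreteCategory.bijective_of_isIso (X.presheaf.map (homOfLE e.le).op))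
  have h1 : Function.Bijective (i.appIso O).hom := ConcreteCategory.bijective_of_isIso _
  show Function.Bijective _ ↔ Function.Bijective _
  rw [← Function.Bijective.of_comp_iff _ h1]
  conv_rhs => rw [← Function.Bijective.of_comp_iff' hb]
  exact iff_of_eq (congrArg Function.Bijective (funext hsq))

theorem funBij_preimage {Z X : Scheme.{u}} (i : Z ⟶ X) [IsOpenImmersion i] (U : X.Opens)
    (h : ∀ O, FunBij X U O) (O : Z.Opens) : FunBij Z (i ⁻¹ᵁ U) O := (funBij_image_iff i U O).2 (h _)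

theorem app_bijective_iff {P V : Scheme.{u}} (f : P ⟶ V) [IsOpenImmersion f] (O : V.Opens) :
    Function.Bijective (f.app O) ↔ FunBij V f.opensRange O := by
  haveI : IsIso (f.app (O ⊓ f.opensRange)) := Scheme.Hom.isIso_app f _ inf_le_right
  haveI : IsIso ((TopologicalSpace.Opens.map f.base).map (homOfLE (inf_le_left : O ⊓ f.opensRange ≤ O))) :=
    ⟨homOfLE (fun z hz => ⟨hz, ⟨z, rfl⟩⟩), Subsingleton.elim _ _, Subsingleton.elim _ _⟩
  have hb : Function.Bijective (P.presheaf.map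
      ((TopologicalSpace.Opens.map f.base).map (homOfLE (inf_le_left : O ⊓ f.opensRange ≤ O))).op) :=
    ConcreteCategory.bijective_of_isIso _
  have hb' : Function.Bijective (f.app (O ⊓ f.opensRange)) := ConcreteCategory.bijective_of_isIso _
  rw [← Function.Bijective.of_comp_iff' hb]
  conv_rhs => rw [FunBij, ← Function.Bijective.of_comp_iff' hb']
  refine iff_of_eq (congrArg Function.Bijective (funext fun r => ?_))
  exact congr($((f.naturality (homOfLE (inf_le_left : O ⊓ f.opensRange ≤ O)).op).symm) r)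

/-- `Triv` on a coproduct. -/
theorem triv_sigma {ι : Type u} (Z : ι → Scheme.{u}) {M : (∐ Z).Modules}
    (h : ∀ i, Triv ((Scheme.Modules.pullback (Sigma.ι Z i)).obj M)) : Triv M := by
  classical
  have hg : ∀ i, ∃ s : Γ(M, (Sigma.ι Z i).opensRange), Gen (Sigma.ι Z i).opensRange s := by
    intro i
    obtain ⟨τ, hτ⟩ := (h i).of_iso ((Scheme.Modules.restrictFunctorIsoPullback (Sigma.ι Z i)).app M).symm
    exact exists_gen_of_eq (Scheme.Hom.image_top_eq_opensRange _) ⟨_, (gen_restrict_iff (Sigma.ι Z i) τ).1 hτ⟩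
  choose s hs using hg
  refine exists_gen_of_compatible (fun i => (Sigma.ι Z i).opensRange) s hs (fun i j => ?_) ⊤ (fun _ => le_top) ?_
  · rcases eq_or_ne i j with rfl | hij
    · rfl
    · have hd := disjoint_opensRange_sigmaι Z i j hij
      have hb : (Sigma.ι Z i).opensRange ⊓ (Sigma.ι Z j).opensRange = ⊥ := disjoint_iff.1 hd
      have : Subsingleton Γ(M, (Sigma.ι Z i).opensRange ⊓ (Sigma.ι Z j).opensRange) := by
        rw [hb]
        exact ⟨fun a b => TopCat.Sheaf.eq_of_locally_eq' (⟨M.presheaf, M.isSheaf⟩ : TopCat.Sheaf Ab.{u} (∐ Z).carrier)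
          (fun i : PEmpty.{u+1} => i.elim) ⊥ (fun i => i.elim) bot_le a b fun i => i.elim⟩
      exact Subsingleton.elim _ _
  · intro z _
    obtain ⟨i, y, rfl⟩ := (sigmaOpenCover Z).exists_eq z
    exact Opens.mem_iSup.2 ⟨i, ⟨y, rfl⟩⟩

/-- An affine fpqc neighbourhood adapted to a cover of the source. -/
theorem exists_affine_cover {X X' : Scheme.{u}} (g : X' ⟶ X) [QuasiCompact g] [Flat g] [Surjective g]
    {W : X.Opens} (hW : IsAffineOpen W) (B : Set X'.Opens) (hB : ∀ x, ∃ O ∈ B, x ∈ O) :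
    ∃ (n : ℕ) (A : ULift.{u} (Fin n) → X'.Opens) (q : (∐ fun i => (A i : Scheme.{u})) ⟶ (W : Scheme.{u})),
      (∀ i, IsAffineOpen (A i)) ∧ (∀ i, ∃ O ∈ B, A i ≤ O) ∧ (∀ i, A i ≤ g ⁻¹ᵁ W) ∧
      Flat q ∧ Surjective q ∧ q ≫ W.ι = (Sigma.desc fun i => (A i).ι) ≫ g := by
  classical
  have hbas : ∀ x : (g ⁻¹ᵁ W : X'.Opens), ∃ A : X'.Opens, IsAffineOpen A ∧ (∃ O ∈ B, A ≤ O) ∧ x.1 ∈ A ∧ A ≤ g ⁻¹ᵁ W := by
    intro x
    obtain ⟨O, hO, hxO⟩ := hB x.1
    obtain ⟨_, ⟨A : X'.Opens, hA, rfl⟩, hxA, hAle⟩ :=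
      X'.isBasis_affineOpens.exists_subset_of_mem_open (show x.1 ∈ ((O ⊓ g ⁻¹ᵁ W : X'.Opens) : Set X') from ⟨hxO, x.2⟩) (O ⊓ g ⁻¹ᵁ W).isOpen
    exact ⟨A, hA, ⟨O, hO, fun z hz => (hAle hz).1⟩, hxA, fun z hz => (hAle hz).2⟩
  choose A hA hAB hxA hAW using hbas
  have hc : IsCompact ((g ⁻¹ᵁ W : X'.Opens) : Set X') := QuasiCompact.isCompact_preimage _ W.isOpen hW.isCompact
  obtain ⟨T, hT⟩ := hc.elim_finite_subcover (fun x => (A x : Set X')) (fun x => (A x).isOpen)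
    (fun x hx => Set.mem_iUnion.2 ⟨⟨x, hx⟩, hxA _⟩)
  let A' : ULift.{u} (Fin T.card) → X'.Opens := fun i => A (T.equivFin.symm i.down).1
  let q : (∐ fun i => (A' i : Scheme.{u})) ⟶ (W : Scheme.{u}) := Sigma.desc fun i => X'.homOfLE (hAW _) ≫ g ∣_ W
  refine ⟨T.card, A', q, fun i => hA _, fun i => hAB _, fun i => hAW _,
    IsZariskiLocalAtSource.sigmaDesc fun i => inferInstance, ⟨fun w => ?_⟩, Sigma.hom_ext _ _ fun i => by
      simp [q, A', morphismRestrict_ι]⟩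
  obtain ⟨x, hx⟩ := g.surjective w.1
  have hxW : x ∈ (g ⁻¹ᵁ W : X'.Opens) := show g x ∈ W from hx.symm ▸ w.2
  obtain ⟨a, ha, hxa⟩ := Set.mem_iUnion₂.1 (hT hxW)
  let i : ULift.{u} (Fin T.card) := ⟨T.equivFin ⟨a, ha⟩⟩
  have hi : x ∈ A' i := by simpa [A', i] using hxa
  refine ⟨Sigma.ι (fun i => (A' i : Scheme.{u})) i ⟨x, hi⟩, W.ι.isOpenEmbedding.injective ?_⟩
  show (Sigma.ι (fun i => (A' i : Scheme.{u})) i ≫ q ≫ W.ι) ⟨x, hi⟩ = w.1
  simp only [q, Sigma.ι_desc_assoc, Category.assoc, morphismRestrict_ι, Scheme.homOfLE_ι_assoc]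
  exact hx

/-- Functions: descent along a faithfully flat quasi-compact map. -/
theorem funBij_descent {X X' : Scheme.{u}} (g : X' ⟶ X) [QuasiCompact g] [Flat g] [Surjective g]
    (U : X.Opens) [QuasiCompact U.ι] (h : ∀ O, FunBij X' (g ⁻¹ᵁ U) O) : ∀ O, FunBij X U O := by
  refine funBij_of_basis U fun O x hx => ?_
  obtain ⟨_, ⟨W : X.Opens, hW, rfl⟩, hxW, hWO⟩ :=
    X.isBasis_affineOpens.exists_subset_of_mem_open (show x ∈ (O : Set X) from hx) O.isOpen
  refine ⟨W, hxW, hWO, ?_⟩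
  obtain ⟨n, A, q, hA, -, hAW, hqf, hqs, hq⟩ := exists_affine_cover g hW Set.univ (fun x => ⟨⊤, trivial, trivial⟩)
  haveI := hqf
  haveI := hqs
  haveI : IsAffine (W : Scheme.{u}) := hW
  haveI : ∀ i, IsAffine (A i : Scheme.{u}) := fun i => hA i
  let j := U.ι ∣_ W
  haveI : CompactSpace (U.ι ⁻¹ᵁ W : (U : Scheme.{u}).Opens).toScheme := QuasiCompact.compactSpace_of_compactSpace j
  haveI : QuasiSeparatedSpace (U.ι ⁻¹ᵁ W : (U : Scheme.{u}).Opens).toScheme := quasiSeparatedSpace_of_quasiSeparated j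
  let S' : Scheme.{u} := ∐ fun i => (A i : Scheme.{u})
  have hP := IsPullback.of_hasPullback j q
  let V' : S'.Opens := q ⁻¹ᵁ (W.ι ⁻¹ᵁ U)
  -- functions on `S'`
  have hS : ∀ O, FunBij S' V' O := by
    refine funBij_of_basis V' fun O z hz => ?_
    obtain ⟨i, y, rfl⟩ := (sigmaOpenCover _).exists_eq z
    let σ := Sigma.ι (fun i => (A i : Scheme.{u})) i
    refine ⟨σ ''ᵁ (σ ⁻¹ᵁ O), ⟨y, hz, rfl⟩, by rintro _ ⟨w, hw, rfl⟩; exact hw, (funBij_image_iff σ V' _).1 ?_⟩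
    have e : σ ⁻¹ᵁ V' = (A i).ι ⁻¹ᵁ (g ⁻¹ᵁ U) := by
      show σ ⁻¹ᵁ (q ⁻¹ᵁ (W.ι ⁻¹ᵁ U)) = _
      rw [← Scheme.Hom.comp_preimage, ← Scheme.Hom.comp_preimage, ← Scheme.Hom.comp_preimage, Category.assoc, hq]
      simp [σ]
    rw [e]
    exact funBij_preimage (A i).ι (g ⁻¹ᵁ U) h _
  have hrj : (W.ι ⁻¹' (U : Set X)) = Set.range j := by
    ext w
    constructor
    · intro hw
      refine ⟨⟨⟨w.1, hw⟩, w.2⟩, W.ι.isOpenEmbedding.injective ?_⟩
      exact congr($(morphismRestrict_ι U.ι W) ⟨⟨w.1, hw⟩, w.2⟩)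
    · rintro ⟨z, rfl⟩
      show W.ι (j z) ∈ U
      rw [show W.ι (j z) = U.ι ((U.ι ⁻¹ᵁ W).ι z) from congr($(morphismRestrict_ι U.ι W) z)]
      exact ((U.ι ⁻¹ᵁ W).ι z).2
  let iY := pullback.snd j q
  have hr : iY.opensRange = V' := by
    refine SetLike.coe_injective ?_
    rw [Scheme.Hom.coe_opensRange, Scheme.Pullback.range_snd]
    show q ⁻¹' Set.range j = q ⁻¹' (W.ι ⁻¹' (U : Set X))
    rw [← hrj]
  have hbY : Function.Bijective iY.appTop := (app_bijective_iff iY ⊤).2 (hr ▸ hS ⊤)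
  -- descend
  letI : Algebra Γ((W : Scheme.{u}), ⊤) Γ(S', ⊤) := q.appTop.hom.toAlgebra
  haveI : Module.Flat Γ((W : Scheme.{u}), ⊤) Γ(S', ⊤) := by
    rw [← RingHom.flat_algebraMap_iff, RingHom.algebraMap_toAlgebra]
    exact HasRingHomProperty.appTop @Flat q inferInstance
  haveI : Module.FaithfullyFlat Γ((W : Scheme.{u}), ⊤) Γ(S', ⊤) := by
    refine Module.FaithfullyFlat.of_comap_surjective ?_
    haveI : Surjective (S'.isoSpec.hom ≫ Spec.map q.appTop) := by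
      rw [Scheme.isoSpec_hom_naturality]
      infer_instance
    haveI : Surjective (Spec.map q.appTop) := Surjective.of_comp S'.isoSpec.hom _
    exact (Spec.map q.appTop).surjective
  have hpo := SchDesc.isPushout_appTop hP
  have hbj : Function.Bijective j.appTop := by
    letI : Algebra Γ((W : Scheme.{u}), ⊤) Γ((U.ι ⁻¹ᵁ W : (U : Scheme.{u}).Opens).toScheme, ⊤) := j.appTop.hom.toAlgebra
    letI : Algebra Γ(S', ⊤) Γ(pullback j q, ⊤) := iY.appTop.hom.toAlgebra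
    letI : Algebra Γ((U.ι ⁻¹ᵁ W : (U : Scheme.{u}).Opens).toScheme, ⊤) Γ(pullback j q, ⊤) :=
      (pullback.fst j q).appTop.hom.toAlgebra
    letI : Algebra Γ((W : Scheme.{u}), ⊤) Γ(pullback j q, ⊤) := (iY.appTop.hom.comp q.appTop.hom).toAlgebra
    haveI : IsScalarTower Γ((W : Scheme.{u}), ⊤) Γ(S', ⊤) Γ(pullback j q, ⊤) := IsScalarTower.of_algebraMap_eq fun _ => rfl
    haveI : IsScalarTower Γ((W : Scheme.{u}), ⊤) Γ((U.ι ⁻¹ᵁ W : (U : Scheme.{u}).Opens).toScheme, ⊤) Γ(pullback j q, ⊤) :=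
      IsScalarTower.of_algebraMap_eq fun a => (DFunLike.congr_fun (congrArg CommRingCat.Hom.hom hpo.w) a).symm
    haveI : Algebra.IsPushout Γ((W : Scheme.{u}), ⊤) Γ(S', ⊤) Γ((U.ι ⁻¹ᵁ W : (U : Scheme.{u}).Opens).toScheme, ⊤) Γ(pullback j q, ⊤) :=
      CommRingCat.isPushout_iff_isPushout.1 hpo.flip
    let e := Algebra.IsPushout.equiv Γ((W : Scheme.{u}), ⊤) Γ(S', ⊤) Γ((U.ι ⁻¹ᵁ W : (U : Scheme.{u}).Opens).toScheme, ⊤) Γ(pullback j q, ⊤)
    let f := Algebra.linearMap Γ((W : Scheme.{u}), ⊤) Γ((U.ι ⁻¹ᵁ W : (U : Scheme.{u}).Opens).toScheme, ⊤)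
    have hf : Function.Bijective (f.lTensor Γ(S', ⊤)) := by
      have : (e ∘ f.lTensor Γ(S', ⊤)) = iY.appTop ∘ (TensorProduct.rid Γ((W : Scheme.{u}), ⊤) Γ(S', ⊤)) := by
        funext z
        induction z with
        | zero => simp
        | tmul s a =>
          simp [e, f, Algebra.IsPushout.equiv_tmul, Algebra.smul_def]
          rw [mul_comm]
          congr 1
          exact (congr($(hpo.w) a))
        | add a b ha hb => simp only [Function.comp_apply, map_add] at ha hb ⊢; rw [ha, hb]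
      rw [← Function.Bijective.of_comp_iff' e.bijective, this]
      exact hbY.comp (TensorProduct.rid _ _).bijective
    exact (Module.FaithfullyFlat.lTensor_bijective_iff_bijective _ Γ(S', ⊤) f).1 hf
  have e1 : FunBij (W : Scheme.{u}) (W.ι ⁻¹ᵁ U) ⊤ := by
    have hr' : j.opensRange = W.ι ⁻¹ᵁ U := SetLike.coe_injective (by
      rw [Scheme.Hom.coe_opensRange]; exact hrj.symm)
    exact hr' ▸ (app_bijective_iff j ⊤).1 hbj
  exact funBij_congr W.ι_image_top ((funBij_image_iff W.ι U ⊤).1 e1)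

/-- Extension across the complement by descent. -/
theorem isInvertible_pushforward {U V V' : Scheme.{u}} (f : U ⟶ V) [IsOpenImmersion f] [QuasiCompact f]
    (hf : ∀ O : V.Opens, Function.Bijective (f.app O)) (g : V' ⟶ V) [QuasiCompact g] [Flat g] [Surjective g]
    {L : U.Modules} (hL : PicF.IsInvertible L) {L' : V'.Modules} (hL' : PicF.IsInvertible L')
    (e : (Scheme.Modules.pullback (pullback.snd f g)).obj L' ≅ (Scheme.Modules.pullback (pullback.fst f g)).obj L) :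
    PicF.IsInvertible ((Scheme.Modules.pushforward f).obj L) := by
  refine (VecFrameLib.push_of_local_gen f hf fun y => ?_).1
  obtain ⟨_, ⟨W : V.Opens, (hW : IsAffineOpen W), rfl⟩, hyW, -⟩ :=
    V.isBasis_affineOpens.exists_subset_of_mem_open (Set.mem_univ y) isOpen_univ
  obtain ⟨n, A, q, hA, hAB, hAW, hqf, hqs, hq⟩ := exists_affine_cover g hW {O | ∃ s : Γ(L', O), Gen O s}
    (fun x => by obtain ⟨O, s, hx, hs⟩ := exists_gen_nhd hL' x; exact ⟨O, ⟨s, hs⟩, hx⟩)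
  haveI := hqf
  haveI := hqs
  haveI : IsAffine (W : Scheme.{u}) := hW
  haveI : ∀ i, IsAffine (A i : Scheme.{u}) := fun i => hA i
  let r : (∐ fun i => (A i : Scheme.{u})) ⟶ V' := Sigma.desc fun i => (A i).ι
  have hr : Triv ((Scheme.Modules.pullback r).obj L') := by
    refine triv_sigma _ fun i => ?_
    refine (triv_pullback_comp_iff _ r (Sigma.ι_desc _ i)).2 ?_
    obtain ⟨O, ⟨s, hs⟩, hle⟩ := hAB i
    exact ⟨_, gen_pullMap (A i).ι hL' hs (fun z _ => hle z.2)⟩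
  let Lw := (Scheme.Modules.restrictFunctor (f ⁻¹ᵁ W).ι).obj L
  have eLw := (Scheme.Modules.restrictFunctorIsoPullback (f ⁻¹ᵁ W).ι).app L
  have hLw : PicF.IsInvertible Lw := ParaFLib.isInvertible_of_iso eLw.symm (isInvertible_pullback _ hL)
  let m : pullback (f ∣_ W) q ⟶ pullback f g := pullback.map _ _ _ _ (f ⁻¹ᵁ W).ι r W.ι
    (morphismRestrict_ι f W) hq
  have htw : Triv ((Scheme.Modules.pullback (pullback.fst (f ∣_ W) q)).obj Lw) := by
    have h1 := hr.pullback (pullback.snd (f ∣_ W) q) (isInvertible_pullback _ hL')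
    rw [triv_pullback_comp_iff (pullback.snd (f ∣_ W) q) r rfl,
      ← triv_pullback_comp_iff m (pullback.snd f g) (pullback.lift_snd _ _ _)] at h1
    have h2 := h1.of_iso ((Scheme.Modules.pullback m).mapIso e)
    rw [triv_pullback_comp_iff m (pullback.fst f g) (pullback.lift_fst _ _ _)] at h2
    exact ((triv_pullback_comp_iff (pullback.fst (f ∣_ W) q) (f ⁻¹ᵁ W).ι rfl).2 h2).of_iso
      ((Scheme.Modules.pullback _).mapIso eLw.symm)
  have hfW : Function.Bijective (f ∣_ W).appTop := by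
    rw [← ConcreteCategory.isIso_iff_bijective]
    haveI : ∀ V, IsIso (f.app V) := fun V => (ConcreteCategory.isIso_iff_bijective _).2 (hf V)
    rw [Scheme.Hom.appTop, morphismRestrict_app]
    infer_instance
  obtain ⟨V₀, hyV, t, ht⟩ := VecFrameLib.exists_gen_affine (f ∣_ W) hfW q hLw htw ⟨y, hyW⟩
  have h2 := VecFrameLib.gen_of_restrict ht
  have he : f ⁻¹ᵁ (W.ι ''ᵁ V₀) = (f ⁻¹ᵁ W).ι ''ᵁ ((f ∣_ W) ⁻¹ᵁ V₀) := (image_morphismRestrict_preimage f W V₀).symm
  exact ⟨W.ι ''ᵁ V₀, ⟨⟨y, hyW⟩, hyV, rfl⟩, L.presheaf.map (homOfLE he.le).op t,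
    Gen.res (W := (f ⁻¹ᵁ W).ι ''ᵁ ((f ∣_ W) ⁻¹ᵁ V₀)) h2 he.le⟩

/-- Flat descent of parafactorial pairs. -/
theorem isParafactorialPair_descent {X X' : Scheme.{u}} (g : X' ⟶ X) [QuasiCompact g] [Flat g] [Surjective g]
    (Y : Closeds X) [QuasiCompact (Scheme.Opens.ι (X := X) Y.compl)] (h : ParaF.IsParafactorialPair X' (ParaF.closedsPreimage g Y)) :
    ParaF.IsParafactorialPair X Y := by
  have hc : (ParaF.closedsPreimage g Y).compl = g ⁻¹ᵁ Y.compl := rfl
  obtain ⟨h1, h2⟩ := (ParaFLib.isParafactorialPair_iff _).1 h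
  have hfun : ∀ O, FunBij X Y.compl O := funBij_descent g (Y.compl : X.Opens) fun O => (ringClosed_iff _).1 h1 O
  rw [ParaFLib.isParafactorialPair_iff_pushforward]
  refine ⟨(ringClosed_iff Y).2 hfun, fun V L hL => ?_⟩
  let f := X.homOfLE (inf_le_left : V ⊓ Y.compl ≤ V)
  have hrf : f.opensRange = V.ι ⁻¹ᵁ Y.compl := ParaFLib.opensRange_homOfLE_inf V Y.compl
  haveI : QuasiCompact f := by
    refine ⟨fun C hCo hCc => ?_⟩
    have h3 : IsCompact (V.ι '' C ∩ (Y.compl : Set X)) := by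
      have h4 : IsCompact ((Scheme.Opens.ι (X := X) Y.compl) ⁻¹' (V.ι '' C)) :=
        QuasiCompact.isCompact_preimage _ (V.ι.isOpenEmbedding.isOpenMap _ hCo) (hCc.image V.ι.continuous)
      have h5 := h4.image (Scheme.Opens.ι (X := X) Y.compl).continuous
      rwa [Set.image_preimage_eq_inter_range, Scheme.Opens.range_ι] at h5
    rw [(V ⊓ Y.compl).ι.isOpenEmbedding.isInducing.isCompact_iff]
    convert h3 using 1
    ext x
    constructor
    · rintro ⟨z, hz, rfl⟩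
      exact ⟨⟨f z, hz, congr($(X.homOfLE_ι (inf_le_left : V ⊓ Y.compl ≤ V)) z)⟩, z.2.2⟩
    · rintro ⟨⟨v, hv, rfl⟩, hY⟩
      refine ⟨⟨v.1, v.2, hY⟩, ?_, rfl⟩
      show f ⟨v.1, v.2, hY⟩ ∈ C
      convert hv
      exact V.ι.isOpenEmbedding.injective (congr($(X.homOfLE_ι (inf_le_left : V ⊓ Y.compl ≤ V)) ⟨v.1, v.2, hY⟩))
  have hfb : ∀ O : (V : Scheme.{u}).Opens, Function.Bijective (f.app O) := fun O =>
    (app_bijective_iff f O).2 (hrf ▸ funBij_preimage V.ι Y.compl hfun O)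
  let gV := g ∣_ V
  haveI : QuasiCompact gV := inferInstance
  haveI : Flat gV := inferInstance
  haveI : Surjective gV := IsZariskiLocalAtTarget.restrict (P := @Surjective) inferInstance V
  let L₀ := (Scheme.Modules.pullback (pullback.fst f gV)).obj L
  have hrange : (pullback.snd f gV).opensRange = (g ⁻¹ᵁ V).ι ⁻¹ᵁ (ParaF.closedsPreimage g Y).compl := by
    refine SetLike.coe_injective ?_
    rw [Scheme.Hom.coe_opensRange, Scheme.Pullback.range_snd]
    show gV ⁻¹' Set.range f = _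
    rw [← Scheme.Hom.coe_opensRange, hrf]
    ext z
    show V.ι (gV z) ∈ Y.compl ↔ g ((g ⁻¹ᵁ V).ι z) ∈ Y.compl
    rw [show V.ι (gV z) = g ((g ⁻¹ᵁ V).ι z) from congr($(morphismRestrict_ι g V) z)]
  obtain ⟨L', hL', ⟨φ⟩⟩ := h2 (g ⁻¹ᵁ V).ι (pullback.snd f gV) hrange L₀ (isInvertible_pullback _ hL)
  exact isInvertible_pushforward f hfb gV hL hL'
    ((((Scheme.Modules.restrictFunctorIsoPullback (pullback.snd f gV)).app L').symm) ≪≫ φ)

end Groth.Agent.ParaFDescLib
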